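/-
Continuity of the comparison functors between small etale and pro-etale sites.
-/
import Groth.Prelude.Def_ProEtS

set_option autoImplicit false

universe u

open CategoryTheory CategoryTheory.Limits AlgebraicGeometry Opposite

namespace Groth.Agent.ProEtSLib

set_option backward.isDefEq.respectTransparency.types false in
lemma mem_topology_iff {S : Scheme.{u}} {U : S.ProEt} (R : Sieve U) :
    R ∈ Scheme.ProEt.topology S U ↔
      R.functorPushforward (Scheme.ProEt.forget S) ∈
        Scheme.proetaleTopology.over S ((Scheme.ProEt.forget S).obj U) := by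
  have : Scheme.ProEt.topology S =
      (Scheme.ProEt.forget S).restrictedTopology (Scheme.proetaleTopology.over S) :=
    MorphismProperty.toGrothendieck_comap_forget_eq_restrictedTopology
      _ Scheme.proetalePrecoverage_le_precoverage_weaklyEtale
  rw [this, Functor.mem_restrictedTopology_iff]

set_option backward.isDefEq.respectTransparency.types false in
noncomputable instance preservesFiniteLimits_eps (X : Scheme.{u}) :
    PreservesFiniteLimits (ProEtS.eps X) := by
  have : PreservesFiniteLimits (ProEtS.eps X ⋙ Scheme.ProEt.forget X) :=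
    inferInstanceAs (PreservesFiniteLimits (Scheme.Etale.forget X))
  exact preservesFiniteLimits_of_reflects_of_preserves (ProEtS.eps X) (Scheme.ProEt.forget X)

set_option backward.isDefEq.respectTransparency.types false in
lemma coverPreserving_eps (X : Scheme.{u}) :
    CoverPreserving X.smallEtaleTopology (Scheme.ProEt.topology X) (ProEtS.eps X) := by
  refine ⟨fun {U} R hR => ?_⟩
  rw [mem_topology_iff, ← Sieve.functorPushforward_comp]
  have h : R.functorPushforward (Scheme.Etale.forget X) ∈
      Scheme.etaleTopology.over X ((Scheme.Etale.forget X).obj U) := by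
    have : (Scheme.Etale.forget X).LocallyCoverDense (Scheme.etaleTopology.over X) :=
      Scheme.locallyCoverDense_of_le (P := @Etale) (Q := @Etale) X le_rfl
    exact (Functor.mem_restrictedTopology_iff).1 hR
  rw [GrothendieckTopology.mem_over_iff] at h ⊢
  exact Scheme.etaleTopology_le_proetaleTopology _ h

lemma epsCont (X : Scheme.{u}) : ProEtS.EpsCont X := by
  have : RepresentablyFlat (ProEtS.eps X) := flat_of_preservesFiniteLimits _
  exact (Functor.isContinuous_iff_coverPreserving (J := X.smallEtaleTopology)
    (K := Scheme.ProEt.topology X) (F := ProEtS.eps X)).2 (coverPreserving_eps X)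

set_option backward.isDefEq.respectTransparency.types false in
noncomputable instance preservesFiniteLimits_bcP {X Y : Scheme.{u}} (f : X ⟶ Y) :
    PreservesFiniteLimits (ProEtS.bcP f) := by
  have : PreservesFiniteLimits (ProEtS.bcP f ⋙ Scheme.ProEt.forget X) := by
    let e : ProEtS.bcP f ⋙ Scheme.ProEt.forget X ≅
        Scheme.ProEt.forget Y ⋙ Over.pullback f :=
      MorphismProperty.Over.pullbackCompForgetIso (P := @WeaklyEtale) (Q := ⊤) f
    exact preservesFiniteLimits_of_natIso e.symm
  exact preservesFiniteLimits_of_reflects_of_preserves (ProEtS.bcP f) (Scheme.ProEt.forget X)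

set_option backward.isDefEq.respectTransparency.types false in
lemma pCont {X Y : Scheme.{u}} (f : X ⟶ Y) : ProEtS.PCont f := by
  have : RepresentablyFlat (ProEtS.bcP f) := flat_of_preservesFiniteLimits _
  refine (Functor.isContinuous_iff_coverPreserving (J := Scheme.ProEt.topology Y)
    (K := Scheme.ProEt.topology X) (F := ProEtS.bcP f)).2 ⟨fun {U} R hR => ?_⟩
  let e : ProEtS.bcP f ⋙ Scheme.ProEt.forget X ≅
      Scheme.ProEt.forget Y ⋙ Over.pullback f :=
    MorphismProperty.Over.pullbackCompForgetIso (P := @WeaklyEtale) (Q := ⊤) f
  have h3 := (GrothendieckTopology.coverPreserving_overPullback (J := Scheme.proetaleTopology) f).cover_preserve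
    ((mem_topology_iff R).1 hR)
  rw [← Sieve.functorPushforward_comp] at h3
  rw [mem_topology_iff, ← Sieve.functorPushforward_comp]
  refine GrothendieckTopology.superset_covering _ ?_
    ((Scheme.proetaleTopology.over X).pullback_stable (e.hom.app U) h3)
  rintro Z g ⟨W, t, k, ht, hk⟩
  refine ⟨W, t, k ≫ e.inv.app W, ht, ?_⟩
  rw [← cancel_mono (e.hom.app U)]
  rw [hk, Category.assoc, Category.assoc, e.hom.naturality, e.inv_hom_id_app_assoc]

end Groth.Agent.ProEtSLib
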