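/-
Weakly etale morphisms: residue field extensions, geometric lifts along coverings,
strict localisations.
-/
import Groth.Prelude.Def_ProEtS
import Groth.Prelude.Def_Hens2
import Groth.Agent.ProEtSLib.Cont
import Groth.Agent.WLocalLib.UnivHomeoEtale
import Groth.Agent.WEField.Basic
import Groth.Agent.S0426
import Groth.Agent.S0736
import Groth.Agent.S12237

set_option autoImplicit false

universe u

open CategoryTheory CategoryTheory.Limits AlgebraicGeometry Opposite
open scoped TensorProduct

namespace Groth.Agent.ProEtSLib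

set_option backward.isDefEq.respectTransparency.types false in
theorem weaklyEtale_specMap {R S : Type u} [CommRing R] [CommRing S] [Algebra R S]
    [h : Algebra.WeaklyEtale R S] :
    WeaklyEtale (Spec.map (CommRingCat.ofHom (algebraMap R S))) := by
  refine ⟨(HasRingHomProperty.Spec_iff (P := @Flat)).2 (RingHom.flat_algebraMap_iff.2 h.flat), ?_⟩
  have : MorphismProperty.RespectsIso (@Flat.{u}) :=
    MorphismProperty.IsStableUnderBaseChange.respectsIso
  rw [diagonal_SpecMap, MorphismProperty.cancel_right_of_respectsIso @Flat,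
    HasRingHomProperty.Spec_iff (P := @Flat)]
  exact h.flat_lmul'

theorem isSeparable_residueFieldMap {X Y : Scheme.{u}} (f : X ⟶ Y) [WeaklyEtale f] (x : X) :
    letI := (f.residueFieldMap x).hom.toAlgebra
    Algebra.IsSeparable (Y.residueField (f x)) (X.residueField x) := by
  letI := (f.residueFieldMap x).hom.toAlgebra
  algebraize [(f.stalkMap x).hom, (Y.residue (f x)).hom, (X.residue x).hom]
  have : WeaklyEtale (Spec.map (CommRingCat.ofHom
      (algebraMap (Y.presheaf.stalk (f x)) (X.presheaf.stalk x)))) :=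
    WLocalLib.weaklyEtale_specMap_stalkMap f x
  have : Algebra.WeaklyEtale (Y.presheaf.stalk (f x)) (X.presheaf.stalk x) :=
    WLocalLib.weaklyEtale_of_specMap
  letI : Algebra (Y.presheaf.stalk (f x)) (X.residueField x) :=
    ((X.residue x).hom.comp (f.stalkMap x).hom).toAlgebra
  haveI : IsScalarTower (Y.presheaf.stalk (f x)) (X.presheaf.stalk x) (X.residueField x) :=
    IsScalarTower.of_algebraMap_eq' rfl
  haveI : IsScalarTower (Y.presheaf.stalk (f x)) (Y.residueField (f x)) (X.residueField x) :=
    IsScalarTower.of_algebraMap_eq' (congrArg CommRingCat.Hom.hom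
      (Scheme.residue_residueFieldMap f x).symm)
  let φ : Y.residueField (f x) ⊗[Y.presheaf.stalk (f x)] X.presheaf.stalk x
      →ₐ[Y.residueField (f x)] X.residueField x :=
    Algebra.TensorProduct.lift (Algebra.ofId _ _)
      (IsScalarTower.toAlgHom (Y.presheaf.stalk (f x)) (X.presheaf.stalk x) (X.residueField x))
      (fun _ _ => Commute.all _ _)
  have hφ : Function.Surjective φ := fun c => by
    obtain ⟨b, rfl⟩ := X.residue_surjective x c
    exact ⟨1 ⊗ₜ b, by simp [φ]; rfl⟩
  haveI : Algebra.WeaklyEtale (Y.residueField (f x)) (X.residueField x) :=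
    WEField.weaklyEtale_of_surjective φ hφ
  exact Groth.Agent.S0426.result

theorem exists_geometric_lift {X Y : Scheme.{u}} (f : X ⟶ Y) [WeaklyEtale f] (x : X)
    {k : Type u} [Field k] [IsSepClosed k] (a : Y.residueField (f x) ⟶ CommRingCat.of k) :
    ∃ ξ' : Spec (CommRingCat.of k) ⟶ X,
      ξ' ≫ f = Spec.map a ≫ Y.fromSpecResidueField (f x) := by
  haveI := isSeparable_residueFieldMap f x
  algebraize [(f.residueFieldMap x).hom, a.hom]
  let b : X.residueField x →ₐ[Y.residueField (f x)] k := IsSepClosed.lift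
  have hfac : f.residueFieldMap x ≫ CommRingCat.ofHom b.toRingHom = a := by
    ext1; exact b.comp_algebraMap
  refine ⟨Spec.map (CommRingCat.ofHom b.toRingHom) ≫ X.fromSpecResidueField x, ?_⟩
  refine Eq.trans ?_ (congrArg (fun q => Spec.map q ≫ Y.fromSpecResidueField (f x)) hfac)
  refine (Category.assoc _ _ _).trans ?_
  refine Eq.trans ?_ (congrArg (· ≫ Y.fromSpecResidueField (f x)) (Spec.map_comp _ _)).symm
  refine Eq.trans ?_ (Category.assoc _ _ _).symm
  exact congrArg (Spec.map (CommRingCat.ofHom b.toRingHom) ≫ ·)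
    (Scheme.Hom.SpecMap_residueFieldMap_fromSpecResidueField f x).symm

set_option backward.isDefEq.respectTransparency.types false in
theorem exists_geometric_lift_of_covering {X : Scheme.{u}} (U : X.ProEt) (R : Sieve U)
    (hR : R ∈ Scheme.ProEt.topology X U) {k : Type u} [Field k] [IsSepClosed k]
    (ξ : Spec (CommRingCat.of k) ⟶ U.left) :
    ∃ (V : X.ProEt) (g : V ⟶ U) (ξ' : Spec (CommRingCat.of k) ⟶ V.left), R g ∧ ξ' ≫ g.left = ξ := by
  have h := (mem_topology_iff R).1 hR
  rw [GrothendieckTopology.mem_over_iff] at h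
  have hle : Scheme.proetalePrecoverage.{u} ≤ Scheme.precoverage @WeaklyEtale := inf_le_right
  have h' : Sieve.overEquiv _ (R.functorPushforward (Scheme.ProEt.forget X)) ∈
      Scheme.grothendieckTopology @WeaklyEtale _ := Precoverage.toGrothendieck_mono hle _ h
  obtain ⟨𝒰, hle⟩ := Scheme.mem_grothendieckTopology_iff.1 h'
  obtain ⟨⟨u, a⟩, rfl⟩ := (Scheme.SpecToEquivOfField k U.left).symm.surjective ξ
  obtain ⟨i, y, rfl⟩ := 𝒰.exists_eq u
  obtain ⟨ξ', hξ'⟩ := exists_geometric_lift (𝒰.f i) y a
  obtain ⟨W, t, m, ht, hm⟩ := (Sieve.overEquiv_iff _ _).1 (hle _ _ ⟨i⟩)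
  refine ⟨W, t, ξ' ≫ m.left, ht, ?_⟩
  have hm' : 𝒰.f i = m.left ≫ t.left := congrArg (fun q => q.left) hm
  exact (Category.assoc _ _ _).trans (((congrArg (ξ' ≫ ·) hm'.symm)).trans hξ')

theorem weaklyEtale_specOf (X : Scheme.{u}) (x : X) (R : Type u) [CommRing R]
    [IsLocalRing R] [Algebra (X.presheaf.stalk x) R]
    [IsLocalHom (algebraMap (X.presheaf.stalk x) R)]
    [Hensel.IsStrictHenselization (X.presheaf.stalk x) R] :
    WeaklyEtale (Hens2.specOf X x R) := by
  have : Algebra.WeaklyEtale (X.presheaf.stalk x) R :=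
    Groth.Agent.S0736.result _ _ (Groth.Agent.S12237.result (X.presheaf.stalk x) R)
  have := weaklyEtale_specMap (R := X.presheaf.stalk x) (S := R)
  have := WLocalLib.weaklyEtale_fromSpecStalk x
  exact inferInstanceAs (WeaklyEtale (_ ≫ _))

end Groth.Agent.ProEtSLib
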