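/-
The unit from small to big pro-etale site.
-/
import Groth.Prelude.Def_ProEtS
import Mathlib.CategoryTheory.Adjunction.Triple
import Mathlib

set_option autoImplicit false

universe u v₁ v₂ u₁ u₂

open CategoryTheory CategoryTheory.Limits AlgebraicGeometry Opposite

namespace Groth.Agent.ProEtSLib

theorem isZero_rightDerived_of_exact {A : Type u₁} [Category.{v₁} A] [Abelian A]
    [HasInjectiveResolutions A] {B : Type u₂} [Category.{v₂} B] [Abelian B] (F : A ⥤ B)
    [F.Additive] [PreservesFiniteLimits F] [PreservesFiniteColimits F] (q : ℕ) (X : A) :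
    IsZero ((F.rightDerived (q + 1)).obj X) := by
  refine IsZero.of_iso ?_ ((injectiveResolution X).isoRightDerivedObj F (q + 1))
  have h := (injectiveResolution X).cocomplex_exactAt_succ q
  rw [HomologicalComplex.exactAt_iff] at h
  exact HomologicalComplex.ExactAt.isZero_homology ((HomologicalComplex.exactAt_iff _ _).2 (h.map F))

set_option backward.isDefEq.respectTransparency.types false in
instance isCocontinuous_forget (S : Scheme.{u}) :
    (Scheme.ProEt.forget S).IsCocontinuous (Scheme.ProEt.topology S)
      (Scheme.proetaleTopology.over S) := by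
  have : Scheme.ProEt.topology S =
      (Scheme.ProEt.forget S).restrictedTopology (Scheme.proetaleTopology.over S) :=
    MorphismProperty.toGrothendieck_comap_forget_eq_restrictedTopology
      _ Scheme.proetalePrecoverage_le_precoverage_weaklyEtale
  rw [this]
  infer_instance

set_option backward.isDefEq.respectTransparency.types false in
theorem unit_bigPullback (S : Scheme.{u})
    [((Scheme.ProEt.forget S).sheafPushforwardContinuous AddCommGrpCat.{u + 1}
      (Scheme.ProEt.topology S) (Scheme.proetaleTopology.over S)).Additive]
    [HasInjectiveResolutions (Sheaf (Scheme.proetaleTopology.over S) AddCommGrpCat.{u + 1})]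
    (F : ProEtS.AbP S) :
    IsIso (((Scheme.ProEt.forget S).sheafAdjunctionContinuous AddCommGrpCat.{u + 1}
      (Scheme.ProEt.topology S) (Scheme.proetaleTopology.over S)).unit.app F) ∧
    ∀ q : ℕ, 0 < q →
      IsZero ((((Scheme.ProEt.forget S).sheafPushforwardContinuous AddCommGrpCat.{u + 1}
        (Scheme.ProEt.topology S) (Scheme.proetaleTopology.over S)).rightDerived q).obj
        (((Scheme.ProEt.forget S).sheafPullback AddCommGrpCat.{u + 1} (Scheme.ProEt.topology S)
          (Scheme.proetaleTopology.over S)).obj F)) := by
  let G := Scheme.ProEt.forget S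
  let adj₁ := G.sheafAdjunctionContinuous AddCommGrpCat.{u + 1}
      (Scheme.ProEt.topology S) (Scheme.proetaleTopology.over S)
  let adj₂ := G.sheafAdjunctionCocontinuous AddCommGrpCat.{u + 1}
      (Scheme.ProEt.topology S) (Scheme.proetaleTopology.over S)
  constructor
  · let t : Adjunction.Triple _ _ _ := { adj₁ := adj₁, adj₂ := adj₂ }
    have : IsIso adj₂.counit := by
      refine NatTrans.isIso_iff_isIso_app adj₂.counit |>.2 fun H => ?_
      have : IsIso ((sheafToPresheaf _ _).map (adj₂.counit.app H)) := by
        show IsIso (adj₂.counit.app H).hom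
        rw [Functor.sheafAdjunctionCocontinuous_counit_app_hom]
        have : G.op.Full := inferInstanceAs (Scheme.ProEt.forget S).op.Full
        have : G.op.Faithful := inferInstanceAs (Scheme.ProEt.forget S).op.Faithful
        have : ∀ P : (S.ProEt)ᵒᵖ ⥤ AddCommGrpCat.{u+1}, G.op.HasPointwiseRightKanExtension P :=
          fun P V => inferInstance
        rw [Functor.ranAdjunction_counit]
        have : ∀ X, IsIso ((G.op.ranCounit.app H.obj).app X) := fun X =>
          (G.op.isPointwiseRightKanExtensionRanCounit H.obj (G.op.obj X)).isIso_hom_app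
        exact @NatIso.isIso_of_isIso_app _ _ _ _ _ _ _ this
      exact isIso_of_fully_faithful (sheafToPresheaf _ _) _
    have := t.isIso_unit_iff_isIso_counit.2 this
    exact inferInstanceAs (IsIso (adj₁.unit.app F))
  · intro q hq
    obtain ⟨q, rfl⟩ := Nat.exists_eq_succ_of_ne_zero hq.ne'
    have := adj₁.rightAdjoint_preservesLimits
    have := adj₂.leftAdjoint_preservesColimits
    exact isZero_rightDerived_of_exact _ q _

end Groth.Agent.ProEtSLib
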