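/-
Adjoint triples attached to a weakly etale monomorphism on small pro-etale sites.
-/
import Groth.Prelude.Def_ProEtS
import Groth.Prelude.Def_EtShriek2
import Mathlib.CategoryTheory.Adjunction.Triple

set_option autoImplicit false

universe u

open CategoryTheory CategoryTheory.Limits AlgebraicGeometry Opposite

namespace Groth.Agent.ProEtSLib

set_option backward.isDefEq.respectTransparency.types false in
/-- For a monomorphism `j`, composing with `j` and base changing back is the identity. -/
noncomputable def compBcIso {U X : Scheme.{u}} (j : U ⟶ X) [WeaklyEtale j] [Mono j] :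
    ProEtS.compP j ⋙ ProEtS.bcP j ≅ 𝟭 U.ProEt := by
  let adj : ProEtS.compP j ⊣ ProEtS.bcP j :=
    MorphismProperty.Over.mapPullbackAdj (@WeaklyEtale) ⊤ j ‹_› trivial
  have : (ProEtS.compP j).Faithful := by
    constructor
    intro A B g g' h
    apply MorphismProperty.Over.Hom.ext
    exact congrArg (fun t => t.left) h
  have : (ProEtS.compP j).Full := by
    constructor
    intro A B g
    have hw : g.left ≫ B.hom = A.hom := by
      rw [← cancel_mono j, Category.assoc]
      exact CategoryTheory.Over.w g.hom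
    exact ⟨MorphismProperty.Over.homMk g.left hw trivial, MorphismProperty.Over.Hom.ext rfl⟩
  exact (asIso adj.unit).symm

set_option backward.isDefEq.respectTransparency.types false in
theorem unit_counit_isIso {U X : Scheme.{u}} (j : U ⟶ X) [WeaklyEtale j] [Mono j]
    [ProEtS.JPCont j] [ProEtS.PCont j] :
    IsIso (ProEtS.extZeroPAdj j).unit ∧ IsIso (ProEtS.pullPushAdjP j).counit := by
  let adj : ProEtS.compP j ⊣ ProEtS.bcP j :=
    MorphismProperty.Over.mapPullbackAdj (@WeaklyEtale) ⊤ j ‹_› trivial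
  let adjS : ProEtS.restrP j ⊣ ProEtS.pushP j :=
    adj.sheafPushforwardContinuous (Scheme.ProEt.topology U) (Scheme.ProEt.topology X)
  let eP : ProEtS.pullP j ≅ ProEtS.restrP j := (ProEtS.pullPushAdjP j).leftAdjointUniq adjS
  have hc : Functor.IsContinuous (ProEtS.compP j ⋙ ProEtS.bcP j) (Scheme.ProEt.topology U)
      (Scheme.ProEt.topology U) :=
    Functor.isContinuous_comp _ _ _ (Scheme.ProEt.topology X) _
  let e : ProEtS.pushP j ⋙ ProEtS.restrP j ≅ 𝟭 _ :=
    Functor.sheafPushforwardContinuousComp' (Iso.refl (ProEtS.compP j ⋙ ProEtS.bcP j))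
      AddCommGrpCat.{u + 1} (Scheme.ProEt.topology U) (Scheme.ProEt.topology X)
      (Scheme.ProEt.topology U) ≪≫
    Functor.sheafPushforwardContinuousId' (compBcIso j) AddCommGrpCat.{u + 1}
      (Scheme.ProEt.topology U)
  have h1 : IsIso (ProEtS.pullPushAdjP j).counit :=
    (ProEtS.pullPushAdjP j).isIso_counit_of_iso (Functor.isoWhiskerLeft _ eP ≪≫ e)
  let t : Adjunction.Triple (ProEtS.extZeroP j) (ProEtS.restrP j) (ProEtS.pushP j) :=
    { adj₁ := ProEtS.extZeroPAdj j
      adj₂ := adjS }
  exact ⟨t.isIso_unit_iff_isIso_counit.2 (adjS.isIso_counit_of_iso e), h1⟩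

set_option backward.isDefEq.respectTransparency.types false in
theorem epsPull_extZero {U X : Scheme.{u}} (j : U ⟶ X) [Etale j] [EtShriek.JCont j]
    [ProEtS.JPCont j] [ProEtS.EpsCont U] [ProEtS.EpsCont X] :
    Nonempty (EtShriek.extZero j ⋙ ProEtS.epsPull X ≅
      ProEtS.epsPull U ⋙ ProEtS.extZeroP j) := by
  have hc : Functor.IsContinuous (EtShriek.compEtale j ⋙ ProEtS.eps X) U.smallEtaleTopology
      (Scheme.ProEt.topology X) :=
    Functor.isContinuous_comp _ _ _ X.smallEtaleTopology _
  let e : ProEtS.eps U ⋙ ProEtS.compP j ≅ EtShriek.compEtale j ⋙ ProEtS.eps X :=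
    NatIso.ofComponents (fun A => MorphismProperty.Over.isoMk (Iso.refl _))
  let eR : ProEtS.restrP j ⋙ ProEtS.epsPush U ≅ ProEtS.epsPush X ⋙ EtShriek.restrAlong j :=
    Functor.sheafPushforwardContinuousComp' e AddCommGrpCat.{u + 1} U.smallEtaleTopology
      (Scheme.ProEt.topology U) (Scheme.ProEt.topology X) ≪≫
    (Functor.sheafPushforwardContinuousComp' (Iso.refl (EtShriek.compEtale j ⋙ ProEtS.eps X))
      AddCommGrpCat.{u + 1} U.smallEtaleTopology
      X.smallEtaleTopology (Scheme.ProEt.topology X)).symm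
  exact ⟨(((EtShriek.extZeroAdj j).comp (ProEtS.epsAdj X)).ofNatIsoRight eR.symm).leftAdjointUniq
    ((ProEtS.epsAdj U).comp (ProEtS.extZeroPAdj j))⟩

end Groth.Agent.ProEtSLib
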