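/-
Restriction of injective sheaves from the big to the small pro-etale site.
-/
import Groth.Prelude.Def_ProEtS
import Groth.Agent.KInj.Restrict

set_option autoImplicit false

set_option linter.style.haveILetI false

universe u

open CategoryTheory CategoryTheory.Limits AlgebraicGeometry Opposite

namespace Groth.Agent.ProEtSLib

lemma colim_preservesMono_of_filtered (K : Type (u+1)) [Category.{u} K] [IsFiltered K] :
    (colim : (K ⥤ AddCommGrpCat.{u+1}) ⥤ AddCommGrpCat.{u+1}).PreservesMonomorphisms := by
  have : IsFiltered (AsSmall.{u+1} K) := IsFiltered.of_equivalence AsSmall.equiv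
  have : HasExactColimitsOfShape K AddCommGrpCat.{u+1} :=
    HasExactColimitsOfShape.of_domain_equivalence _ (AsSmall.equiv (C := K)).symm
  infer_instance

lemma lan_preservesMono_of_filtered {C : Type (u+1)} [Category.{u} C] {D : Type (u+1)}
    [Category.{u} D] (L : C ⥤ D) [∀ V, IsFiltered (CostructuredArrow L V)] :
    (L.lan : (C ⥤ AddCommGrpCat.{u+1}) ⥤ D ⥤ AddCommGrpCat.{u+1}).PreservesMonomorphisms := by
  refine ⟨fun {F G} φ _ => ?_⟩
  haveI : ∀ V, Mono ((L.lan.map φ).app V) := fun V => by
    haveI := colim_preservesMono_of_filtered (CostructuredArrow L V)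
    let hc : ∀ F : C ⥤ AddCommGrpCat.{u+1}, IsColimit ((Functor.LeftExtension.mk (L.lan.obj F)
        (L.lanUnit.app F)).coconeAt V) := fun F =>
      Functor.isPointwiseLeftKanExtensionOfIsLeftKanExtension (L.lan.obj F) (L.lanUnit.app F) V
    let ψ := Functor.whiskerLeft (CostructuredArrow.proj L V) φ
    haveI : ∀ j, Mono (ψ.app j) := fun j => inferInstanceAs (Mono (φ.app _))
    haveI := NatTrans.mono_of_mono_app ψ
    refine colim.map_mono' ψ (hc F) (hc G) _ fun j => ?_
    have h1 := NatTrans.congr_app (L.lanUnit.naturality φ) j.left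
    have h2 := (L.lan.map φ).naturality j.hom
    dsimp at h1 h2
    show ((L.lanUnit.app F).app j.left ≫ (L.lan.obj F).map j.hom) ≫ (L.lan.map φ).app V =
      φ.app j.left ≫ (L.lanUnit.app G).app j.left ≫ (L.lan.obj G).map j.hom
    refine (Category.assoc _ _ _).trans ((congr_arg (_ ≫ ·) h2).trans ?_)
    exact ((Category.assoc _ _ _).symm.trans
      ((congr_arg (· ≫ (L.lan.obj G).map j.hom) h1.symm).trans (Category.assoc _ _ _)))
  exact NatTrans.mono_of_mono_app _

lemma injective_pushforward {C : Type (u+1)} [Category.{u} C] {D : Type (u+1)} [Category.{u} D]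
    (G : C ⥤ D) (J : GrothendieckTopology C) (K : GrothendieckTopology D)
    [Functor.IsContinuous G J K] [HasSheafify J AddCommGrpCat.{u+1}]
    [HasSheafify K AddCommGrpCat.{u+1}]
    (h : (G.op.lan : _ ⥤ Dᵒᵖ ⥤ AddCommGrpCat.{u+1}).PreservesMonomorphisms)
    (I : Sheaf K AddCommGrpCat.{u+1}) [Injective I] :
    Injective ((G.sheafPushforwardContinuous AddCommGrpCat.{u+1} J K).obj I) := by
  haveI := h
  haveI : (Functor.sheafPullbackConstruction.sheafPullback G AddCommGrpCat.{u+1} J K
      ).PreservesMonomorphisms :=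
    ⟨fun f _ => inferInstanceAs (Mono ((presheafToSheaf K _).map (G.op.lan.map f.hom)))⟩
  exact Injective.injective_of_adjoint
    (Functor.sheafPullbackConstruction.sheafAdjunctionContinuous G AddCommGrpCat.{u+1} J K) I

lemma hasComponentTerminals_map {C : Type (u+1)} [Category.{u} C] {T S : C} (f : T ⟶ S) :
    KInj.HasComponentTerminals (Over.map f).op := by
  intro V
  refine ⟨ULift.{u+1} { g : V.unop.left ⟶ T // g ≫ f = V.unop.hom }, fun g =>
    CostructuredArrow.mk (Y := Opposite.op (Over.mk g.down.1))
      (Over.homMk (U := V.unop) (V := (Over.map f).obj (Over.mk g.down.1)) (𝟙 V.unop.left)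
        (by simpa using g.down.2)).op, fun x => ?_⟩
  let m : V.unop.left ⟶ x.left.unop.left := x.hom.unop.left
  have hm : (m ≫ x.left.unop.hom) ≫ f = V.unop.hom := by
    rw [Category.assoc]
    exact Over.w x.hom.unop
  let k : Over.mk (m ≫ x.left.unop.hom) ⟶ x.left.unop := Over.homMk m
  refine ⟨⟨ULift.up ⟨m ≫ x.left.unop.hom, hm⟩, CostructuredArrow.homMk k.op ?_⟩, trivial, ?_⟩
  · apply Quiver.Hom.unop_inj
    apply Over.OverMorphism.ext
    simp [k, m]
  · rintro ⟨⟨⟨g, hg⟩⟩, h⟩ -
    have h1 : m = h.left.unop.left := by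
      have := congrArg (fun t => t.unop.left) (CostructuredArrow.w h)
      simpa [m] using this.symm
    have h2 : g = m ≫ x.left.unop.hom := by
      rw [h1]
      exact (Over.w h.left.unop).symm
    subst h2
    refine Sigma.ext rfl (heq_of_eq ?_)
    apply CostructuredArrow.hom_ext
    apply Quiver.Hom.unop_inj
    apply Over.OverMorphism.ext
    simp [k, h1]

lemma injective_restrict_big {T S : Scheme.{u}} (f : T ⟶ S)
    [(Scheme.ProEt.forget T ⋙ Over.map f).IsContinuous (Scheme.ProEt.topology T)
      (Scheme.proetaleTopology.over S)]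
    (I : Sheaf (Scheme.proetaleTopology.over S) AddCommGrpCat.{u + 1}) [Injective I] :
    Injective (((Scheme.ProEt.forget T ⋙ Over.map f).sheafPushforwardContinuous
      AddCommGrpCat.{u + 1} (Scheme.ProEt.topology T) (Scheme.proetaleTopology.over S)).obj I) := by
  have h1 : ((Over.map f).op.lan : _ ⥤ (Over S)ᵒᵖ ⥤ AddCommGrpCat.{u+1}).PreservesMonomorphisms :=
    KInj.preservesMonomorphisms_lan (A := AddCommGrpCat.{u+1}) _ (hasComponentTerminals_map f)
  have : Injective (((Over.map f).sheafPushforwardContinuous AddCommGrpCat.{u + 1}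
      (Scheme.proetaleTopology.over T) (Scheme.proetaleTopology.over S)).obj I) :=
    injective_pushforward _ _ _ h1 I
  have : ∀ V, IsFiltered (CostructuredArrow (Scheme.ProEt.forget T).op V) := fun V =>
    IsFiltered.of_equivalence (structuredArrowOpEquivalence (Scheme.ProEt.forget T) (unop V))
  exact injective_pushforward (Scheme.ProEt.forget T) (Scheme.ProEt.topology T)
    (Scheme.proetaleTopology.over T) (lan_preservesMono_of_filtered _)
    (((Over.map f).sheafPushforwardContinuous AddCommGrpCat.{u + 1}
      (Scheme.proetaleTopology.over T) (Scheme.proetaleTopology.over S)).obj I)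

end Groth.Agent.ProEtSLib
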